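-- helper84: S2282 (SU_n(q), n odd, generated by three conjugate regular unipotent elements): the definitions of the
-- explicit design in the hyperbolic model `SUm (j + 2) 1 bar` (`n = 2 j + 5`), and the membership predicate `HasM`.
import Mathlib
import Cfsg.Agent.Helper84.PSUNorm

set_option autoImplicit false
set_option linter.unusedSectionVars false

namespace Cfsg.Agent.Helper84.RUn

open Matrix Cfsg.Agent.Helper84.PSU

variable {K : Type*} [Field K] {j : ℕ}

local notation "Vec" => (I (j + 2) 1 → K)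
local notation "Mat" => Matrix (I (j + 2) 1) (I (j + 2) 1) K
local notation "Mk" => Matrix (Fin (j + 2)) (Fin (j + 2)) K

/-- the index of `e_1`, `f_1` -/
def i1 : Fin (j + 2) := ⟨0, by omega⟩
/-- the index of `e_2`, `f_2` -/
def i2 : Fin (j + 2) := ⟨1, by omega⟩
/-- the index of `e_m`, `f_m` (`m = j + 2`) -/
def im : Fin (j + 2) := ⟨j + 1, by omega⟩

/-- the basis vectors `e_l` -/
def vE (l : Fin (j + 2)) : Vec := bv (eI l)
/-- the basis vectors `f_l` -/
def vF (l : Fin (j + 2)) : Vec := bv (fI l)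
/-- the anisotropic basis vector `w` -/
def vW : Vec := bv (wI 0)

/-- `e_2 + e_3 + ... + e_m` -/
def sE : Vec := fun x => match x with
  | Sum.inl i => if 1 ≤ i.val then 1 else 0
  | Sum.inr _ => 0

/-- `e_2 + e_3 + ... + e_l` -/
def pE (l : Fin (j + 2)) : Vec := fun x => match x with
  | Sum.inl i => if 1 ≤ i.val ∧ i.val ≤ l.val then 1 else 0
  | Sum.inr _ => 0

/-- the vectors of `V' = ⟨e_1, f_1⟩^⊥` -/
def InV' (x : Vec) : Prop := x (eI i1) = 0 ∧ x (fI i1) = 0

/-- the vector used in `g`: `e_3` if `m ≥ 3`, and `w` if `m = 2` -/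
def vB : Vec := if h : 1 ≤ j then bv (eI ⟨2, by omega⟩) else bv (wI 0)

/-- the coefficient of `g` -/
def dB (K : Type*) [Field K] (j : ℕ) : K := if 1 ≤ j then -1 else 1

/-- the upper unitriangular matrix with all entries above the diagonal in the rows `≥ 2` equal to one -/
def MpM : Mk := Matrix.of fun i l => if i = l then 1 else if 1 ≤ i.val ∧ i.val < l.val then 1 else 0

/-- the conjugate inverse transpose of `MpM` -/
def MqM : Mk := Matrix.of fun i l => if i = l then 1 else if 1 ≤ l.val ∧ l.val + 1 = i.val then -1 else 0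

variable (bar : K →+* K)

/-- the regular unipotent element `UW'` of `SU(V')`: `A_23(1) A_34(1) ... A_{m-1,m}(1) D_m(1, c)` -/
def UWM (c : K) : Mat := lvM MpM 1 MqM * eichM bar (vE im) vW c

/-- the root element `A_12(1) : e_2 ↦ e_2 + e_1, f_1 ↦ f_1 - f_2` -/
def A12M : Mat := eichM bar (vE i1) (-vF i2) 0

/-- the root elements `A_21(t) : e_1 ↦ e_1 + t e_2` -/
def A21M (t : K) : Mat := eichM bar (vF i1) (t • vE i2) 0

/-- the root elements `B_12(t) : f_1 ↦ f_1 + t e_2, f_2 ↦ f_2 - bar t e_1` -/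
def B12M (t : K) : Mat := eichM bar (vE i1) (t • vE i2) 0

/-- the root elements `C_12(t) : e_1 ↦ e_1 + t f_2, e_2 ↦ e_2 - bar t f_1` -/
def C12M (t : K) : Mat := eichM bar (vF i1) (t • vF i2) 0

/-- the regular unipotent element `u = UW' A_12(1)` -/
def uM (c : K) : Mat := UWM bar c * A12M bar

/-- the first conjugating element `g = E(e_1, d b, c_g)` (`c_g = 0` if `m ≥ 3`, `c_g = c` if `m = 2`) -/
def gM (c : K) : Mat := eichM bar (vE i1) ((dB K j) • vB) (if 1 ≤ j then 0 else c)

/-- the second conjugating element `h`: `e_1 ↔ f_1`, and `-1` on `V'` -/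
def hM : Mat := Matrix.of fun x y =>
  if x = eI i1 then (if y = fI i1 then 1 else 0)
  else if x = fI i1 then (if y = eI i1 then 1 else 0)
  else if x = y then -1 else 0

/-- the Weyl element `n`: `e_1 ↔ f_1`, `e_2 ↔ f_2`, the identity on the other basis vectors -/
def nM : Mat := Matrix.of fun x y =>
  if x = eI i1 then (if y = fI i1 then 1 else 0)
  else if x = fI i1 then (if y = eI i1 then 1 else 0)
  else if x = eI i2 then (if y = fI i2 then 1 else 0)
  else if x = fI i2 then (if y = eI i2 then 1 else 0)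
  else if x = y then 1 else 0

/-- the nilpotent part of `UW'` on vectors -/
def NU (c : K) (x : Vec) : Vec := UWM bar c *ᵥ x - x

set_option quotPrecheck false in
local notation "SUk" => ↥(SUm (j + 2) 1 bar)

/-- the subgroup `H` contains an element with matrix `M` -/
def HasM (H : Subgroup SUk) (M : Mat) : Prop := ∃ x ∈ H, mt bar x = M

theorem HasM.mul {H : Subgroup SUk} {M N : Mat} (hM : HasM bar H M) (hN : HasM bar H N) :
    HasM bar H (M * N) := by
  obtain ⟨x, hx, rfl⟩ := hM
  obtain ⟨y, hy, rfl⟩ := hN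
  exact ⟨x * y, mul_mem hx hy, mt_mul bar x y⟩

theorem HasM.one (H : Subgroup SUk) : HasM bar H (1 : Mat) := ⟨1, one_mem H, mt_one bar⟩

theorem HasM.inv {H : Subgroup SUk} {M N : Mat} (hM : HasM bar H M) (hMN : M * N = 1) : HasM bar H N := by
  obtain ⟨x, hx, rfl⟩ := hM
  refine ⟨x⁻¹, inv_mem hx, ?_⟩
  have h1 : mt bar x⁻¹ * mt bar x = 1 := mt_inv_mul bar x
  calc mt bar x⁻¹ = mt bar x⁻¹ * (mt bar x * N) := by rw [hMN, Matrix.mul_one]
    _ = N := by rw [← Matrix.mul_assoc, h1, Matrix.one_mul]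

theorem HasM.pow {H : Subgroup SUk} {M : Mat} (hM : HasM bar H M) (n : ℕ) : HasM bar H (M ^ n) := by
  obtain ⟨x, hx, rfl⟩ := hM
  exact ⟨x ^ n, pow_mem hx n, mt_pow bar x n⟩

theorem HasM.of_eq {H : Subgroup SUk} {M N : Mat} (hM : HasM bar H M) (h : M = N) : HasM bar H N := h ▸ hM

theorem hasM_mt {H : Subgroup SUk} {x : SUk} (hx : x ∈ H) : HasM bar H (mt bar x) := ⟨x, hx, rfl⟩

end Cfsg.Agent.Helper84.RUn
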