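-- helper84: S2282, piece (TRN): the isomorphism of the hyperbolic model with `SU_n(q)` with its base change data.
import Mathlib
import Cfsg.Prelude.Def_Classical
import Cfsg.Agent.Helper84.PSUIso
import Cfsg.Agent.Helper45.GUCard
import Cfsg.Agent.Helper13.UGen1

set_option autoImplicit false
set_option linter.unusedSectionVars false

namespace Cfsg.Agent.Helper84.RUn

open Matrix Cfsg.Agent.Helper84.PSU

variable {K : Type*} [Field K]

/-- the Frobenius involution of a field with `q ^ 2` elements: the basic facts -/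
theorem bar_facts [Fintype K] {q : ℕ} (hK : Fintype.card K = q ^ 2) (bar : K →+* K) (hq : ∀ x, bar x = x ^ q) :
    (∀ x, bar (bar x) = x) ∧ (∀ y : K, bar y = y → ∃ t, t + bar t = y) ∧
      (∀ y : K, bar y = y → ∃ t, t * bar t = y) ∧ ∃ s₀ : K, bar s₀ ≠ s₀ := by
  refine ⟨?_, ?_, ?_, ?_⟩
  · intro x
    rw [hq, hq]
    exact Cfsg.Agent.Helper13.frob_frob hK x
  · intro y hy
    obtain ⟨t, ht⟩ := Cfsg.Agent.Helper13.exists_trace_eq_of_fixed hK (a := y) (by rw [← hq]; exact hy)
    exact ⟨t, by rw [hq]; exact ht⟩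
  · intro y hy
    obtain ⟨t, ht⟩ := Cfsg.Agent.Helper13.exists_norm_eq_of_fixed hK (a := y) (by rw [← hq]; exact hy)
    exact ⟨t, by rw [hq]; exact ht⟩
  · by_contra hcon
    push Not at hcon
    exact Cfsg.Agent.Helper45.GU.bar_ne_id hK bar hq (RingHom.ext hcon)

/-- (TRN) the hyperbolic model is isomorphic to `SU_n(q)` by a base change and a reindexing -/
theorem exists_transfer_n [Fintype K] {q : ℕ} (hK : Fintype.card K = q ^ 2) (bar : K →+* K)
    (hq : ∀ x, bar x = x ^ q) (k r : ℕ) :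
    ∃ (φ : ↥(SUm k r bar) ≃* Cfsg.SU (2 * k + r) K q) (e : I k r ≃ Fin (2 * k + r))
      (P P' : Matrix (I k r) (I k r) K), P * P' = 1 ∧ P' * P = 1 ∧
      (∀ u v : I k r → K, sf bar (P *ᵥ u) (P *ᵥ v) = hf bar u v) ∧
      ∀ g : ↥(SUm k r bar),
        ((φ g : Matrix.SpecialLinearGroup (Fin (2 * k + r)) K) : Matrix (Fin (2 * k + r)) (Fin (2 * k + r)) K) =
          (P * mt bar g * P').submatrix e.symm e.symm := by
  obtain ⟨hb, -, hnm, s₀, hs₀⟩ := bar_facts hK bar hq
  obtain ⟨a, ha⟩ := hnm (-1) (by rw [map_neg, map_one])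
  have hs0 : s₀ ≠ 0 := by
    intro h
    apply hs₀
    rw [h, map_zero]
  have hbs0 : bar s₀ ≠ 0 := by
    intro h
    apply hs0
    rw [← hb s₀, h, map_zero]
  obtain ⟨b, hbdef⟩ : ∃ b : K, b = a * (bar s₀ / s₀) := ⟨_, rfl⟩
  have hbb : b * bar b = -1 := by
    rw [hbdef, map_mul, map_div₀, hb]
    have : a * (bar s₀ / s₀) * (bar a * (s₀ / bar s₀)) = a * bar a := by
      field_simp
    rw [this, ha]
  have hne : 1 + a * bar b ≠ 0 := by
    rw [hbdef, map_mul, map_div₀, hb]
    have : 1 + a * (bar a * (s₀ / bar s₀)) = (bar s₀ - s₀) / bar s₀ := by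
      have : a * (bar a * (s₀ / bar s₀)) = (a * bar a) * (s₀ / bar s₀) := by ring
      rw [this, ha]
      field_simp
      ring
    rw [this]
    exact div_ne_zero (sub_ne_zero.mpr hs₀) hbs0
  obtain ⟨m, hmdef⟩ : ∃ m : K, m = bar ((1 + a * bar b)⁻¹) := ⟨_, rfl⟩
  have hm : bar m * (1 + a * bar b) = 1 := by
    rw [hmdef, hb, inv_mul_cancel₀ hne]
  have hm' : m * (1 + bar a * b) = 1 := by
    have := congrArg bar hm
    rw [map_mul, map_add, map_mul, hb, hb, map_one] at this
    exact this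
  have hP'P : (Gm (bar m) (bar m * bar b) 1 (bar a) : Matrix (I k r) (I k r) K) * Gm 1 m a (m * b) = 1 := by
    rw [Gm_mul, ← Gm_one]
    congr 1
    · linear_combination hm
    · linear_combination (bar m * m) * hbb
    · linear_combination ha
    · linear_combination hm'
  have hPP' : (Gm 1 m a (m * b) : Matrix (I k r) (I k r) K) * Gm (bar m) (bar m * bar b) 1 (bar a) = 1 :=
    mul_eq_one_comm.mp hP'P
  have hkey : ∀ u v : I k r → K, sf bar (Gm 1 m a (m * b) *ᵥ u) (Gm 1 m a (m * b) *ᵥ v) = hf bar u v := by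
    apply sf_Gm
    · rw [map_one]
      linear_combination ha
    · rw [map_mul]
      linear_combination hm
    · rw [map_one]
      linear_combination hm'
    · rw [map_mul]
      linear_combination (m * bar m) * hbb
  have hcard : Fintype.card (I k r) = 2 * k + r := by
    simp only [Fintype.card_sum, Fintype.card_fin]
    omega
  refine ⟨isoEquiv bar (Fintype.equivFinOfCardEq hcard) q hq hPP' hP'P hkey, Fintype.equivFinOfCardEq hcard,
    _, _, hPP', hP'P, hkey, ?_⟩
  intro g
  rfl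

end Cfsg.Agent.Helper84.RUn
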