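-- helper84: S2282, the main theorem in the hyperbolic model and its transfer to `SU_n(q)`, assembled from the pieces
-- (UWA) helper75 + helper33, (UWP) + (EX) helper81, (SPAN) + (ALG) + (QF) helper55, (NH) + (WEYL) helper41,
-- (XU1) + (XU2) + (BRAID) helper59, (CHAIN) + (REG) + (LAM) helper29, (CEN) + (TVALL) helper46, (TOP) helper72,
-- (PARAM) helper33.
import Mathlib
import Cfsg.Prelude.Def_Classical
import Cfsg.Agent.Helper84.RUn.Defs
import Cfsg.Agent.Helper84.RUn.Transfer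
import Cfsg.Agent.Helper33.RUnPARAM
import Cfsg.Agent.Helper41.RUnWEYL
import Cfsg.Agent.Helper46.RUnCEN
import Cfsg.Agent.Helper46.RUnTVALL
import Cfsg.Agent.Helper55.RUnQF
import Cfsg.Agent.Helper59.RUnXU1
import Cfsg.Agent.Helper59.RUnXU2
import Cfsg.Agent.Helper59.RUnBRAID
import Cfsg.Agent.Helper72.RUnTOP
import Cfsg.Agent.Helper81.RUnEX
import Cfsg.Agent.Helper29.RUnCHAIN
import Cfsg.Agent.Helper29.RUnREG
import Cfsg.Agent.Helper29.RUnLAM

set_option autoImplicit false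
set_option linter.unusedSectionVars false

namespace Cfsg.Agent.Helper84.RUn

open Matrix Cfsg.Agent.Helper84.PSU

section model

variable {K : Type*} [Field K] {j : ℕ}

local notation "Vec" => (I (j + 2) 1 → K)
local notation "Mat" => Matrix (I (j + 2) 1) (I (j + 2) 1) K

variable (bar : K →+* K) (hb : ∀ x, bar (bar x) = x)

set_option quotPrecheck false in
local notation "SUk" => ↥(SUm (j + 2) 1 bar)

include hb in
/-- the three conjugates generate the model group -/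
theorem model_main {c : K} (hc : c + bar c + 1 = 0)
    (hgen : ∀ A : AddSubgroup K, (∀ x ∈ A, c * x ∈ A) → (1 : K) ∈ A → A = ⊤)
    (htr : ∀ y : K, bar y = y → ∃ t, t + bar t = y) {s₀ : K} (hs₀ : bar s₀ ≠ s₀)
    (htop : ∀ H : Subgroup SUk,
      (∀ (v : Vec) (z : K), hf bar v v = 0 → z + bar z = 0 → HasM bar H (eichM bar v 0 z)) → H = ⊤)
    (u g h : SUk) (hu : mt bar u = uM bar c) (hg : mt bar g = gM bar c) (hh : mt bar h = hM) :
    Subgroup.closure ({u, g * u * g⁻¹, h * u * h⁻¹} : Set SUk) = ⊤ := by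
  obtain ⟨H, hH⟩ : ∃ H : Subgroup SUk, H = Subgroup.closure ({u, g * u * g⁻¹, h * u * h⁻¹} : Set SUk) :=
    ⟨_, rfl⟩
  rw [← hH]
  have hu1 : u ∈ H := by
    rw [hH]
    exact Subgroup.subset_closure (by simp)
  have hu2 : g * u * g⁻¹ ∈ H := by
    rw [hH]
    exact Subgroup.subset_closure (by simp)
  have hu3 : h * u * h⁻¹ ∈ H := by
    rw [hH]
    exact Subgroup.subset_closure (by simp)
  have hX : HasM bar H (B12M bar 1) :=
    ⟨g * u * g⁻¹ * u⁻¹, mul_mem hu2 (inv_mem hu1), Cfsg.Agent.Helper59.RUn.mt_comm_g_u bar hb hc u g hu hg⟩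
  have hU3 : HasM bar H (UWM bar c * C12M bar 1) :=
    ⟨h * u * h⁻¹, hu3, Cfsg.Agent.Helper59.RUn.mt_conj_h_u bar hb hc u h hu hh⟩
  obtain ⟨hC, hUW⟩ := Cfsg.Agent.Helper59.RUn.hasM_C12_UW bar hb hc H hX hU3
  have hA : HasM bar H (A12M bar) := by
    obtain ⟨x, hx, hxm⟩ := hUW
    refine ⟨x⁻¹ * u, mul_mem (inv_mem hx) hu1, ?_⟩
    rw [mt_mul, hu, uM, ← Matrix.mul_assoc, ← hxm, mt_inv_mul, Matrix.one_mul]
  have hA' := Cfsg.Agent.Helper29.RUn.hasM_A21 bar hb hc H hUW hC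
  have hn := Cfsg.Agent.Helper41.RUn.hasM_nM bar hb H hA hA' hX hC
  have h1 := Cfsg.Agent.Helper29.RUn.exists_hasM_eich bar hb hc hgen H hUW hn hA
  have h2 := Cfsg.Agent.Helper46.RUn.hasM_eich_all bar hb hs₀ H h1
  have h3 := Cfsg.Agent.Helper55.RUn.hasM_eich_f bar hb H hn h2
  have h4 := Cfsg.Agent.Helper46.RUn.hasM_tv bar hb htr H h2 h3
  exact htop H h4

end model

/-- the case `n = 2 j + 5` of S2282 -/
theorem main_ge_five {F : Type*} [Field F] [Fintype F] (q : ℕ) (hF : Fintype.card F = q ^ 2) (j : ℕ) :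
    ∃ u g h : ↥(Cfsg.SU (2 * (j + 2) + 1) F q),
      (IsNilpotent (((u : Matrix.SpecialLinearGroup (Fin (2 * (j + 2) + 1)) F) :
          Matrix (Fin (2 * (j + 2) + 1)) (Fin (2 * (j + 2) + 1)) F) - 1) ∧
        (((u : Matrix.SpecialLinearGroup (Fin (2 * (j + 2) + 1)) F) :
          Matrix (Fin (2 * (j + 2) + 1)) (Fin (2 * (j + 2) + 1)) F) - 1) ^ (2 * (j + 2) + 1 - 1) ≠ 0) ∧
      Subgroup.closure ({u, g * u * g⁻¹, h * u * h⁻¹} : Set ↥(Cfsg.SU (2 * (j + 2) + 1) F q)) = ⊤ := by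
  have hq2 : 2 ≤ q := by
    by_contra hlt
    have hq1 : q ≤ 1 := by omega
    have h1 : Fintype.card F ≤ 1 := by
      rw [hF]
      calc q ^ 2 ≤ 1 ^ 2 := Nat.pow_le_pow_left hq1 2
        _ = 1 := one_pow 2
    have := Fintype.one_lt_card (α := F)
    omega
  obtain ⟨bar, hq⟩ := Cfsg.Agent.Helper45.GU.exists_bar hF
  obtain ⟨hb, htr, hnm, s₀, hs₀⟩ := bar_facts hF bar hq
  obtain ⟨c, hc, hgen⟩ := Cfsg.Agent.Helper33.RUn.exists_param bar hq2 hF hq
  obtain ⟨u₀, hu₀⟩ := Cfsg.Agent.Helper81.RUn.exists_u (j := j) bar hb hc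
  obtain ⟨g₀, hg₀⟩ := Cfsg.Agent.Helper81.RUn.exists_g (j := j) bar hb hc
  obtain ⟨h₀, hh₀⟩ := Cfsg.Agent.Helper81.RUn.exists_h (j := j) bar hb
  have hcl := model_main bar hb hc hgen htr hs₀
    (fun H hH => Cfsg.Agent.Helper72.RUn.eq_top_of_tv bar hF hq H hH) u₀ g₀ h₀ hu₀ hg₀ hh₀
  obtain ⟨φ, e, P, P', hPP', hP'P, -, hφ⟩ := exists_transfer_n hF bar hq (j + 2) 1
  have hψ : ∀ X : Matrix (I (j + 2) 1) (I (j + 2) 1) F,
      (P * X * P').submatrix e.symm e.symm = psiM e P P' X := fun X => rfl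
  have hpow : ∀ (X : Matrix (I (j + 2) 1) (I (j + 2) 1) F) (n : ℕ),
      (psiM e P P' X) ^ n = psiM e P P' (X ^ n) := by
    intro X n
    induction n with
    | zero => rw [pow_zero, pow_zero, psiM_one e hPP']
    | succ n ih => rw [pow_succ, ih, pow_succ, psiM_mul e hP'P]
  have hsub : (((φ u₀ : Matrix.SpecialLinearGroup (Fin (2 * (j + 2) + 1)) F) :
      Matrix (Fin (2 * (j + 2) + 1)) (Fin (2 * (j + 2) + 1)) F) - 1) = psiM e P P' (mt bar u₀ - 1) := by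
    rw [hφ, hψ]
    have h1 : psiM e P P' (mt bar u₀ - 1) = psiM e P P' (mt bar u₀) - psiM e P P' 1 := by
      unfold psiM
      rw [Matrix.mul_sub, Matrix.sub_mul]
      rfl
    rw [h1, psiM_one e hPP']
  refine ⟨φ u₀, φ g₀, φ h₀, ⟨?_, ?_⟩, ?_⟩
  · refine ⟨2 * j + 5, ?_⟩
    rw [hsub, hpow, hu₀, Cfsg.Agent.Helper29.RUn.uM_sub_one_pow_eq]
    unfold psiM
    simp
  · rw [hsub, hpow, hu₀]
    intro h0
    apply Cfsg.Agent.Helper29.RUn.uM_sub_one_pow_ne (j := j) bar c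
    apply psiM_injective e hPP' hP'P
    have h2 : 2 * (j + 2) + 1 - 1 = 2 * j + 4 := by omega
    rw [h2] at h0
    rw [h0]
    unfold psiM
    simp
  · have h1 : ({φ u₀, φ g₀ * φ u₀ * (φ g₀)⁻¹, φ h₀ * φ u₀ * (φ h₀)⁻¹} :
        Set ↥(Cfsg.SU (2 * (j + 2) + 1) F q)) =
        φ.toMonoidHom '' ({u₀, g₀ * u₀ * g₀⁻¹, h₀ * u₀ * h₀⁻¹} : Set ↥(SUm (j + 2) 1 bar)) := by
      rw [Set.image_insert_eq, Set.image_pair]
      simp
    rw [h1, ← MonoidHom.map_closure, hcl]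
    rw [← MonoidHom.range_eq_map]
    exact MonoidHom.range_eq_top.mpr φ.surjective

end Cfsg.Agent.Helper84.RUn
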